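import Cfsg.Agent.H536.Nine.Main
import Cfsg.Agent.H429.NoSimple
import Cfsg.Agent.S5303

/-!
# S5227, section A: `|T ∩ K| ≠ 9` (helper536)
-/

set_option autoImplicit false

namespace Cfsg.Agent.H536.Nine

open Cfsg.Agent.H776.Co

universe u

variable {Γ : Type u} [Group Γ] [Finite Γ] {T U1 U2 : Subgroup Γ} {z : Γ}

theorem Loc.card_inf_ne' (h : Loc T U1 U2 z ⊥) {K : Subgroup Γ} (hK : K.Normal) (hs : IsSimpleGroup K)
    (hc : ¬ IsMulCommutative K) (hz : z ∈ K) : Nat.card ↥(T ⊓ K) ≠ 9 := by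
  have : Fact (Nat.Prime 3) := ⟨Nat.prime_three⟩
  exact card_inf_ne_of h hK hz
    (fun S hS hSc Ω hΩ => (Cfsg.Agent.S5303.result (G := K) hc 3 S hS hSc Ω hΩ).1)
    (fun _ hm h27 hd => Cfsg.Agent.H429.NoSimple.no_simple (K := K) hc hm h27 hd)

end Cfsg.Agent.H536.Nine
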