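import Mathlib
import Cfsg.Agent.H776.Co.Loc

/-!
# S5227, section A: `|T ∩ K| ≠ 9`, part 1 (helper536)

`Half T U1 U2 z` : the facts of `Loc` which are used, symmetric in `U1`, `U2`; the group `T` of order 27; the set `Om K`
of the Sylow 3-subgroups of `K` and the action of `Γ`.
-/

set_option autoImplicit false

namespace Cfsg.Agent.H536.Nine

open Subgroup Cfsg.Agent.H776.Co

universe u

/-- the facts of `Loc` which are used -/
structure Half {Γ : Type u} [Group Γ] (T U1 U2 : Subgroup Γ) (z : Γ) : Prop where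
  card_T : Nat.card T = 27
  syl : ¬ 3 ∣ T.index
  exp : ∀ x ∈ T, x ^ 3 = 1
  le1 : U1 ≤ T
  le2 : U2 ≤ T
  card1 : Nat.card U1 = 9
  card2 : Nat.card U2 = 9
  inf : U1 ⊓ U2 = Subgroup.zpowers z
  z_ne : z ≠ 1
  z_comm : ∀ x ∈ T, x * z = z * x
  center : ∀ x ∈ T, (∀ y ∈ T, x * y = y * x) → x ∈ Subgroup.zpowers z
  type : ∀ g : Γ, ∀ x, x ∈ U1 ∨ x ∈ U2 → g * x * g⁻¹ ∈ T → g * x * g⁻¹ ∈ U1 ∨ g * x * g⁻¹ ∈ U2
  sig : ∀ R : Subgroup Γ, (∀ t ∈ T, ∀ r ∈ R, t * r * t⁻¹ ∈ R) → ¬ 3 ∣ Nat.card R → R ≤ ⊥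
  tri : ∀ x, x ∈ U1 ∨ x ∈ U2 → x ≠ 1 → ∀ P Q : Subgroup Γ, IsPGroup 3 P → IsPGroup 3 Q →
    P ≤ Subgroup.centralizer {x} → Q ≤ Subgroup.centralizer {x} → IsPGroup 3 ↥(P ⊔ Q)
  reg : ∀ x ∈ T, x ∉ U1 → x ∉ U2 → Nat.card (Sylow 3 (Subgroup.centralizer ({x} : Set Γ))) = 1 ∨
    Nat.card (Sylow 3 (Subgroup.centralizer ({x} : Set Γ))) = 4
  reg_conj : ∀ x ∈ T, x ∉ U1 → x ∉ U2 → ∀ y ∈ T, y ∉ U1 → y ∉ U2 → ∃ g : Γ, g * x * g⁻¹ = y ∨ g * x * g⁻¹ = y⁻¹
  ord : Nat.card Γ ∣ 2 ^ 13 * 3 ^ 3 * 5 * 7 * 11 ^ 2 * 13 ^ 2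

variable {Γ : Type u} [Group Γ] {T U1 U2 : Subgroup Γ} {z : Γ}

theorem Half.of_loc (h : Loc T U1 U2 z ⊥) : Half T U1 U2 z :=
  ⟨h.card_T, h.syl, h.exp, h.le1, h.le2, h.card1, h.card2, h.inf, h.z_ne, h.z_comm, h.center, h.type, h.sig, h.tri,
    h.reg, h.reg_conj, h.ord⟩

theorem Half.symm (h : Half T U1 U2 z) : Half T U2 U1 z where
  card_T := h.card_T
  syl := h.syl
  exp := h.exp
  le1 := h.le2
  le2 := h.le1
  card1 := h.card2
  card2 := h.card1
  inf := by rw [inf_comm, h.inf]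
  z_ne := h.z_ne
  z_comm := h.z_comm
  center := h.center
  type g x hx hg := (h.type g x hx.symm hg).symm
  sig := h.sig
  tri x hx := h.tri x hx.symm
  reg x hx h1 h2 := h.reg x hx h2 h1
  reg_conj x hx h1 h2 y hy h3 h4 := h.reg_conj x hx h2 h1 y hy h4 h3
  ord := h.ord

namespace Half

theorem z_mem1 (h : Half T U1 U2 z) : z ∈ U1 := by
  have h1 : z ∈ U1 ⊓ U2 := by rw [h.inf]; exact mem_zpowers z
  exact h1.1

theorem z_mem2 (h : Half T U1 U2 z) : z ∈ U2 := h.symm.z_mem1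

theorem z_mem (h : Half T U1 U2 z) : z ∈ T := h.le1 h.z_mem1

theorem order_z (h : Half T U1 U2 z) : orderOf z = 3 := by
  have : Fact (Nat.Prime 3) := ⟨Nat.prime_three⟩
  exact orderOf_eq_prime (h.exp z h.z_mem) h.z_ne

theorem card_z (h : Half T U1 U2 z) : Nat.card (zpowers z) = 3 := by rw [Nat.card_zpowers, h.order_z]

end Half

/-- groups of order 9 are commutative -/
theorem comm_of_nine {Q : Subgroup Γ} (hQ : Nat.card Q = 9) {x y : Γ} (hx : x ∈ Q) (hy : y ∈ Q) : x * y = y * x := by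
  have : Fact (Nat.Prime 3) := ⟨Nat.prime_three⟩
  have hc : IsMulCommutative Q := IsPGroup.isMulCommutative_of_card_eq_prime_sq (p := 3) (G := Q) (by rw [hQ]; norm_num)
  exact congrArg Subtype.val (hc.is_comm.comm (⟨x, hx⟩ : Q) ⟨y, hy⟩)

/-- subgroups of a group of order 9 -/
theorem card_le_nine {Q W : Subgroup Γ} (hQ : Nat.card Q = 9) (hW : W ≤ Q) :
    Nat.card W = 1 ∨ Nat.card W = 3 ∨ W = Q := by
  have h1 : Nat.card W ∣ 9 := by rw [← hQ]; exact card_dvd_of_le hW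
  have hfin : Finite Q := Nat.finite_of_card_ne_zero (by rw [hQ]; norm_num)
  have h2 : Nat.card W ∣ 3 ^ 2 := by rw [show 3 ^ 2 = 9 by norm_num]; exact h1
  obtain ⟨k, hk, h3⟩ := (Nat.dvd_prime_pow Nat.prime_three).1 h2
  interval_cases k
  · left; rw [h3]; norm_num
  · right; left; rw [h3]; norm_num
  · right; right
    exact eq_of_le_of_card_ge hW (by rw [h3, hQ]; norm_num)

/-- two subgroups of order 3 -/
theorem eq_of_three {W W' : Subgroup Γ} (h : Nat.card W = 3) (h' : Nat.card W' = 3) {x : Γ} (hx : x ∈ W) (hx' : x ∈ W')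
    (h1 : x ≠ 1) : W = W' := by
  have key : ∀ {W : Subgroup Γ}, Nat.card W = 3 → x ∈ W → zpowers x = W := by
    intro W hW hx
    have hfin : Finite W := Nat.finite_of_card_ne_zero (by rw [hW]; norm_num)
    have hle : zpowers x ≤ W := zpowers_le.2 hx
    have h2 : Nat.card (zpowers x) ∣ 3 := by rw [← hW]; exact card_dvd_of_le hle
    rcases (Nat.dvd_prime Nat.prime_three).1 h2 with h3 | h3
    · exfalso
      rw [Nat.card_zpowers, orderOf_eq_one_iff] at h3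
      exact h1 h3
    · exact eq_of_le_of_card_ge hle (by rw [h3, hW])
  rw [← key h hx, ← key h' hx']

/-! ### The group `T` -/

namespace Half

/-- commutators are powers of `z` -/
theorem comm_mem (h : Half T U1 U2 z) {x y : Γ} (hx : x ∈ T) (hy : y ∈ T) : x * y * x⁻¹ * y⁻¹ ∈ zpowers z := by
  have hfin : Finite T := Nat.finite_of_card_ne_zero (by rw [h.card_T]; norm_num)
  have : Fact (Nat.Prime 3) := ⟨Nat.prime_three⟩
  set Z : Subgroup T := (zpowers z).subgroupOf T with hZ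
  have hZn : Z.Normal := by
    constructor
    rintro ⟨n, hnT⟩ hn ⟨g, hg⟩
    rw [hZ, mem_subgroupOf] at hn ⊢
    obtain ⟨i, hi⟩ := mem_zpowers_iff.1 hn
    simp only at hi
    subst hi
    have h1 : g * z ^ i = z ^ i * g := (Commute.zpow_right (h.z_comm g hg) i).eq
    change g * z ^ i * g⁻¹ ∈ zpowers z
    rw [h1, mul_inv_cancel_right]
    exact hn
  have hZc : Nat.card Z = 3 := by
    rw [hZ, Nat.card_congr (subgroupOfEquivOfLe (zpowers_le.2 h.z_mem)).toEquiv, h.card_z]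
  have hq : Nat.card (T ⧸ Z) = 3 ^ 2 := by
    have h1 := Z.card_mul_index
    rw [hZc, h.card_T] at h1
    have h2 : Nat.card (T ⧸ Z) = Z.index := rfl
    rw [h2]
    omega
  have hc : IsMulCommutative (T ⧸ Z) := IsPGroup.isMulCommutative_of_card_eq_prime_sq (p := 3) hq
  have h1 : ((⟨x, hx⟩ * ⟨y, hy⟩ * ⟨x, hx⟩⁻¹ * ⟨y, hy⟩⁻¹ : T) : T ⧸ Z) = 1 := by
    rw [QuotientGroup.mk_mul, QuotientGroup.mk_mul, QuotientGroup.mk_mul,
      hc.is_comm.comm (((⟨x, hx⟩ : T) : T ⧸ Z)) ((⟨y, hy⟩ : T) : T ⧸ Z)]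
    rw [QuotientGroup.mk_inv, QuotientGroup.mk_inv]
    group
  have h2 := (QuotientGroup.eq_one_iff _).1 h1
  rw [hZ, mem_subgroupOf] at h2
  exact h2

/-- subgroups of order 9 of `T` are self-centralizing: an element outside moves every element which is not a power of `z` -/
theorem not_comm (h : Half T U1 U2 z) {Q : Subgroup Γ} (hQT : Q ≤ T) (hQ : Nat.card Q = 9) {x u : Γ} (hx : x ∈ T)
    (hxQ : x ∉ Q) (hu : u ∈ Q) (huz : u ∉ zpowers z) : x * u ≠ u * x := by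
  intro hc
  apply huz
  apply h.center u (hQT hu)
  -- the centralizer of `u` in `T` contains `Q` and `x`
  have hfin : Finite T := Nat.finite_of_card_ne_zero (by rw [h.card_T]; norm_num)
  set D : Subgroup Γ := T ⊓ centralizer {u} with hD
  have hQD : Q ≤ D := le_inf hQT fun y hy => mem_centralizer_singleton_iff.2 (comm_of_nine hQ hy hu)
  have hxD : x ∈ D := ⟨hx, mem_centralizer_singleton_iff.2 hc⟩
  have hfD : Finite D := Finite.of_injective (inclusion (inf_le_left : D ≤ T)) (inclusion_injective _)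
  have h1 : Nat.card D ∣ 27 := by rw [← h.card_T]; exact card_dvd_of_le inf_le_left
  have h2 : 9 ∣ Nat.card D := by rw [← hQ]; exact card_dvd_of_le hQD
  have h3 : Nat.card D ≠ 9 := by
    intro h4
    have h5 : Q = D := eq_of_le_of_card_ge hQD (by rw [h4, hQ])
    rw [h5] at hxQ
    exact hxQ hxD
  have h4 : Nat.card D = 27 := by
    obtain ⟨k, hk⟩ := h2
    rw [hk] at h1 h3 ⊢
    have h5 : k ∣ 3 := Nat.dvd_of_mul_dvd_mul_left (by norm_num : 0 < 9) (by simpa using h1)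
    rcases (Nat.dvd_prime Nat.prime_three).1 h5 with rfl | rfl
    · omega
    · norm_num
  have h5 : D = T := eq_of_le_of_card_ge inf_le_left (by rw [h4, h.card_T])
  intro y hy
  rw [← h5] at hy
  exact (mem_centralizer_singleton_iff.1 hy.2).symm

end Half

end Cfsg.Agent.H536.Nine
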