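import Cfsg.Agent.H536.Nine.Om

/-!
# S5227, section A: `|T ∩ K| ≠ 9`, part 3 (helper536): the centralizer of `P = T ∩ K` in `K` is `P`, `P = U1` or `U2`
-/

set_option autoImplicit false

namespace Cfsg.Agent.H536.Nine

open Subgroup Cfsg.Agent.H776.Co

universe u

variable {Γ : Type u} [Group Γ]

/-- the situation -/
structure Ctx (T U1 U2 : Subgroup Γ) (z : Γ) (K : Subgroup Γ) : Prop extends Half T U1 U2 z where
  normal : K.Normal
  nine : Nat.card ↥(T ⊓ K) = 9
  z_memK : z ∈ K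
  irr : ∃ n ∈ K, (∀ x ∈ T ⊓ K, n * x * n⁻¹ ∈ T ⊓ K) ∧ n * z * n⁻¹ ∉ zpowers z

variable {T U1 U2 K : Subgroup Γ} {z : Γ}

/-- normal `p`-complements of a central Sylow subgroup -/
theorem central_sylow {C : Type u} [Group C] [Finite C] (Q : Subgroup C) (hQ : Nat.card Q = 9) (h27 : ¬ 27 ∣ Nat.card C)
    (hc : ∀ x ∈ Q, ∀ y, x * y = y * x) (h1 : ∀ R : Subgroup C, (∀ x, x ∈ R ↔ ¬ 3 ∣ orderOf x) → ¬ 3 ∣ Nat.card R → R ≤ ⊥) :
    Nat.card C = 9 := by
  have : Fact (Nat.Prime 3) := ⟨Nat.prime_three⟩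
  have h9 : 9 ∣ Nat.card C := by rw [← hQ]; exact Q.card_subgroup_dvd_card
  have hf : (Nat.card C).factorization 3 = 2 := by
    have hpos : Nat.card C ≠ 0 := Nat.card_pos.ne'
    apply le_antisymm
    · by_contra h
      apply h27
      have h1 : 3 ^ 3 ∣ Nat.card C := (Nat.prime_three.pow_dvd_iff_le_factorization hpos).2 (by omega)
      simpa using h1
    · rw [← Nat.prime_three.pow_dvd_iff_le_factorization hpos]
      simpa using h9
  set S : Sylow 3 C := Sylow.ofCard Q (by rw [hf, hQ]; norm_num) with hS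
  have hSQ : (S : Subgroup C) = Q := Sylow.coe_ofCard _ _
  have hn : normalizer ((S : Subgroup C) : Set C) ≤ centralizer ((S : Subgroup C) : Set C) := by
    intro y _
    rw [mem_centralizer_iff]
    intro x hx
    rw [hSQ] at hx
    exact hc x hx y
  have hcomp := MonoidHom.ker_transferSylow_isComplement' S hn
  have hnd := MonoidHom.not_dvd_card_ker_transferSylow S hn
  have hker : ∀ x, x ∈ (MonoidHom.transferSylow S hn).ker ↔ ¬ 3 ∣ orderOf x := by
    intro x
    constructor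
    · intro hx h3
      apply hnd
      have h4 : orderOf (⟨x, hx⟩ : (MonoidHom.transferSylow S hn).ker) ∣ Nat.card (MonoidHom.transferSylow S hn).ker :=
        orderOf_dvd_natCard _
      rw [orderOf_mk] at h4
      exact h3.trans h4
    · intro hx
      rw [MonoidHom.mem_ker]
      set y := MonoidHom.transferSylow S hn x with hy
      have h4 : orderOf y ∣ orderOf x := orderOf_map_dvd _ x
      have h5 : orderOf y ∣ 9 := by
        rw [← hQ, ← hSQ]
        exact orderOf_dvd_natCard y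
      rw [show 9 = 3 ^ 2 by norm_num] at h5
      obtain ⟨k, hk, h6⟩ := (Nat.dvd_prime_pow Nat.prime_three).1 h5
      rw [← orderOf_eq_one_iff, h6]
      rcases Nat.eq_zero_or_pos k with rfl | hk0
      · rfl
      · exfalso
        apply hx
        refine dvd_trans ?_ h4
        rw [h6]
        exact dvd_pow_self 3 hk0.ne'
  have h2 := h1 _ hker hnd
  have h3 := hcomp.card_mul
  rw [le_bot_iff.1 h2, card_bot, one_mul] at h3
  rw [← h3, ← hQ, ← hSQ]

namespace Ctx

variable [Finite Γ]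

theorem nine_dvd (h : Ctx T U1 U2 z K) : 9 ∣ Nat.card K := Nine.nine_dvd h.nine

theorem not_27 (h : Ctx T U1 U2 z K) : ¬ 27 ∣ Nat.card K := by
  have := h.normal
  exact Nine.not_27 h.card_T h.syl h.exp h.nine

/-- `C_K(P) = P` -/
theorem ctr (h : Ctx T U1 U2 z K) {y : Γ} (hy : y ∈ K) (hc : ∀ x ∈ T ⊓ K, x * y = y * x) : y ∈ T ⊓ K := by
  have hK := h.normal
  set P := T ⊓ K with hP
  set C : Subgroup Γ := centralizer (P : Set Γ) ⊓ K with hC
  have hPC : P ≤ C := by
    intro x hx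
    refine ⟨mem_centralizer_iff.2 ?_, hx.2⟩
    intro w hw
    exact comm_of_nine h.nine hw hx
  have hcard : Nat.card C = 9 := by
    apply central_sylow (C := C) (P.subgroupOf C)
    · rw [Nat.card_congr (subgroupOfEquivOfLe hPC).toEquiv]
      exact h.nine
    · intro h27
      exact h.not_27 (h27.trans (card_dvd_of_le inf_le_right))
    · rintro ⟨x, hx⟩ hx1 ⟨w, hw⟩
      rw [mem_subgroupOf] at hx1
      exact Subtype.ext (mem_centralizer_iff.1 hw.1 x hx1)
    · intro R hR hR3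
      have h1 := h.sig (R.map C.subtype) (by
        intro t ht r hr
        obtain ⟨⟨r', hr'C⟩, hr', rfl⟩ := hr
        change t * r' * t⁻¹ ∈ _
        have h2 : t * r' * t⁻¹ ∈ C := by
          refine ⟨mem_centralizer_iff.2 ?_, hK.conj_mem _ hr'C.2 t⟩
          intro w hw
          have h3 : t⁻¹ * w * t ∈ P := by
            refine ⟨T.mul_mem (T.mul_mem (T.inv_mem ht) hw.1) ht, ?_⟩
            have := hK.conj_mem _ hw.2 t⁻¹
            rwa [inv_inv] at this
          have h4 := mem_centralizer_iff.1 hr'C.1 _ h3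
          have h5 : w * (t * r' * t⁻¹) = t * ((t⁻¹ * w * t) * r') * t⁻¹ := by group
          rw [h5, h4]
          group
        refine ⟨⟨_, h2⟩, ?_, rfl⟩
        rw [SetLike.mem_coe, hR] at hr' ⊢
        rw [orderOf_mk] at hr' ⊢
        have h6 : orderOf (t * r' * t⁻¹) = orderOf r' := by
          have := orderOf_injective (MulAut.conj t).toMonoidHom (MulAut.conj t).injective r'
          exact this
        rw [h6]
        exact hr') (by rw [card_map_of_injective C.subtype_injective]; exact hR3)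
      intro x hx
      have h2 := h1 ⟨x, hx, rfl⟩
      rw [mem_bot] at h2 ⊢
      exact Subtype.ext h2
  have h1 : P = C := eq_of_le_of_card_ge hPC (by rw [hcard, h.nine])
  rw [h1]
  exact ⟨mem_centralizer_iff.2 hc, hy⟩

/-- `P = U1` or `P = U2` -/
theorem eq_or (h : Ctx T U1 U2 z K) : T ⊓ K = U1 ∨ T ⊓ K = U2 := by
  by_contra hne
  push Not at hne
  obtain ⟨n, hn, hnP, hnz⟩ := h.irr
  have hfin : Finite ↥(T ⊓ K) := inferInstance
  have key : ∀ {U : Subgroup Γ}, Nat.card U = 9 → z ∈ U → T ⊓ K ≠ U → T ⊓ K ⊓ U = zpowers z := by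
    intro U hU hzU hne
    have h1 : zpowers z ≤ T ⊓ K ⊓ U := zpowers_le.2 ⟨⟨h.z_mem, h.z_memK⟩, hzU⟩
    rcases card_le_nine h.nine (inf_le_left : T ⊓ K ⊓ U ≤ T ⊓ K) with h2 | h2 | h2
    · exfalso
      have h3 := card_le_of_le h1
      rw [h2, h.card_z] at h3
      omega
    · symm
      exact eq_of_le_of_card_ge h1 (by rw [h2, h.card_z])
    · exfalso
      apply hne
      have h3 : T ⊓ K ≤ U := by rw [← h2]; exact inf_le_right
      have : Finite U := Nat.finite_of_card_ne_zero (by rw [hU]; norm_num)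
      exact eq_of_le_of_card_ge h3 (by rw [hU, h.nine])
  have hz1 : n * z * n⁻¹ ∈ T ⊓ K := hnP z ⟨h.z_mem, h.z_memK⟩
  apply hnz
  rcases h.type n z (Or.inl h.z_mem1) hz1.1 with h1 | h1
  · rw [← key h.card1 h.z_mem1 hne.1]
    exact ⟨hz1, h1⟩
  · rw [← key h.card2 h.z_mem2 hne.2]
    exact ⟨hz1, h1⟩

end Ctx

/-- the situation, `P = U1` -/
structure Ctx1 (T U1 U2 : Subgroup Γ) (z : Γ) (K : Subgroup Γ) : Prop extends Ctx T U1 U2 z K where
  eq : T ⊓ K = U1

theorem Ctx1.of_ctx [Finite Γ] (h : Ctx T U1 U2 z K) : Ctx1 T U1 U2 z K ∨ Ctx1 T U2 U1 z K := by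
  rcases h.eq_or with h1 | h1
  · exact Or.inl ⟨h, h1⟩
  · exact Or.inr ⟨⟨h.toHalf.symm, h.normal, h.nine, h.z_memK, h.irr⟩, h1⟩

end Cfsg.Agent.H536.Nine
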