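import Cfsg.Agent.H536.Nine.Basic

/-!
# S5227, section A: `|T ∩ K| ≠ 9`, part 2 (helper536): the Sylow 3-subgroups of `K`
-/

set_option autoImplicit false

namespace Cfsg.Agent.H536.Nine

open Subgroup Cfsg.Agent.H776.Co

universe u

variable {Γ : Type u} [Group Γ]

/-- conjugate subgroups -/
def cj (g : Γ) (Q : Subgroup Γ) : Subgroup Γ := Q.map (MulAut.conj g).toMonoidHom

theorem mem_cj {g x : Γ} {Q : Subgroup Γ} : x ∈ cj g Q ↔ g⁻¹ * x * g ∈ Q := by
  unfold cj
  rw [mem_map]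
  constructor
  · rintro ⟨y, hy, rfl⟩
    have : g⁻¹ * (MulAut.conj g).toMonoidHom y * g = y := by
      change g⁻¹ * (g * y * g⁻¹) * g = y
      group
    rwa [this]
  · intro h
    refine ⟨_, h, ?_⟩
    change g * (g⁻¹ * x * g) * g⁻¹ = x
    group

theorem cj_one (Q : Subgroup Γ) : cj 1 Q = Q := by
  ext x
  rw [mem_cj]
  simp

theorem cj_mul (g h : Γ) (Q : Subgroup Γ) : cj (g * h) Q = cj g (cj h Q) := by
  ext x
  rw [mem_cj, mem_cj, mem_cj]
  have : (g * h)⁻¹ * x * (g * h) = h⁻¹ * (g⁻¹ * x * g) * h := by group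
  rw [this]

theorem card_cj (g : Γ) (Q : Subgroup Γ) : Nat.card (cj g Q) = Nat.card Q :=
  card_map_of_injective (MulAut.conj g).injective

theorem cj_le {g : Γ} {Q K : Subgroup Γ} [K.Normal] (h : Q ≤ K) : cj g Q ≤ K := by
  intro x hx
  rw [mem_cj] at hx
  have h1 := ‹K.Normal›.conj_mem _ (h hx) g
  have h2 : g * (g⁻¹ * x * g) * g⁻¹ = x := by group
  rwa [h2] at h1

/-- the subgroups of order 9 of `K` -/
@[ext] structure Om (K : Subgroup Γ) : Type u where
  /-- the subgroup -/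
  val : Subgroup Γ
  le : val ≤ K
  card : Nat.card val = 9

variable {K : Subgroup Γ}

instance [Finite Γ] : Finite (Om K) := Finite.of_injective Om.val fun _ _ h => Om.ext h

instance [K.Normal] : MulAction Γ (Om K) where
  smul g Q := ⟨cj g Q.1, cj_le Q.le, by rw [card_cj, Q.card]⟩
  one_smul Q := Om.ext (cj_one Q.1)
  mul_smul g h Q := Om.ext (cj_mul g h Q.1)

theorem coe_smul [K.Normal] (g : Γ) (Q : Om K) : (g • Q).1 = cj g Q.1 := rfl

theorem smul_eq_iff [K.Normal] {g : Γ} {Q : Om K} : g • Q = Q ↔ ∀ x ∈ Q.1, g⁻¹ * x * g ∈ Q.1 := by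
  constructor
  · intro h x hx
    have h1 : (g • Q).1 = Q.1 := by rw [h]
    rw [coe_smul] at h1
    rw [← h1, mem_cj] at hx
    exact hx
  · intro h
    apply Om.ext
    have hfin : Finite Q.1 := Nat.finite_of_card_ne_zero (by rw [Q.card]; norm_num)
    rw [coe_smul]
    symm
    have hfin' : Finite (cj g Q.1) := Nat.finite_of_card_ne_zero (by rw [card_cj, Q.card]; norm_num)
    exact eq_of_le_of_card_ge (fun x hx => mem_cj.2 (h x hx)) (by rw [card_cj])

/-! ### Orders -/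

section

variable [Finite Γ] {T : Subgroup Γ} [hK : K.Normal]

omit [Finite Γ] hK in
theorem nine_dvd (h9 : Nat.card ↥(T ⊓ K) = 9) : 9 ∣ Nat.card K := by
  rw [← h9]
  exact card_dvd_of_le inf_le_right

theorem not_27 (hT : Nat.card T = 27) (hsyl : ¬ 3 ∣ T.index) (hexp : ∀ x ∈ T, x ^ 3 = 1)
    (h9 : Nat.card ↥(T ⊓ K) = 9) : ¬ 27 ∣ Nat.card K := by
  intro h27
  have h1 : ¬ 3 ∣ K.index := by
    intro h3
    apply hsyl
    have h4 := mul_dvd_mul h27 h3
    rw [K.card_mul_index, ← T.card_mul_index, hT] at h4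
    exact Nat.dvd_of_mul_dvd_mul_left (by norm_num) h4
  have hle : T ≤ K := by
    intro x hx
    have h2 : orderOf (x : Γ ⧸ K) ∣ 3 := by
      apply orderOf_dvd_of_pow_eq_one
      rw [← QuotientGroup.mk_pow, hexp x hx, QuotientGroup.mk_one]
    rcases (Nat.dvd_prime Nat.prime_three).1 h2 with h3 | h3
    · rw [orderOf_eq_one_iff, QuotientGroup.eq_one_iff] at h3
      exact h3
    · exfalso
      apply h1
      have h4 : orderOf (x : Γ ⧸ K) ∣ Nat.card (Γ ⧸ K) := orderOf_dvd_natCard _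
      rw [h3] at h4
      exact h4
  rw [inf_eq_left.2 hle, hT] at h9
  norm_num at h9

omit hK in
theorem fact_three (h9 : 9 ∣ Nat.card K) (h27 : ¬ 27 ∣ Nat.card K) : (Nat.card K).factorization 3 = 2 := by
  have hpos : Nat.card K ≠ 0 := Nat.card_pos.ne'
  apply le_antisymm
  · by_contra h
    apply h27
    have h1 : 3 ^ 3 ∣ Nat.card K := (Nat.prime_three.pow_dvd_iff_le_factorization hpos).2 (by omega)
    simpa using h1
  · rw [← Nat.prime_three.pow_dvd_iff_le_factorization hpos]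
    simpa using h9

/-- the Sylow subgroup -/
noncomputable def Om.toSylow (h9 : 9 ∣ Nat.card K) (h27 : ¬ 27 ∣ Nat.card K) (Q : Om K) :
    @Sylow 3 K _ :=
  have : Fact (Nat.Prime 3) := ⟨Nat.prime_three⟩
  Sylow.ofCard (Q.1.subgroupOf K) (by
    rw [fact_three h9 h27, Nat.card_congr (subgroupOfEquivOfLe Q.le).toEquiv, Q.card]
    norm_num)

omit hK in
theorem Om.coe_toSylow (h9 : 9 ∣ Nat.card K) (h27 : ¬ 27 ∣ Nat.card K) (Q : Om K) :
    (Q.toSylow h9 h27 : Subgroup K) = Q.1.subgroupOf K := by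
  unfold Om.toSylow
  exact Sylow.coe_ofCard _ _

omit hK in
theorem Om.toSylow_bijective (h9 : 9 ∣ Nat.card K) (h27 : ¬ 27 ∣ Nat.card K) :
    Function.Bijective (Om.toSylow h9 h27) := by
  have : Fact (Nat.Prime 3) := ⟨Nat.prime_three⟩
  constructor
  · intro Q Q' h
    apply Om.ext
    have h1 : (Q.toSylow h9 h27 : Subgroup K) = (Q'.toSylow h9 h27 : Subgroup K) := by rw [h]
    rw [Om.coe_toSylow, Om.coe_toSylow, subgroupOf_inj, inf_eq_left.2 Q.le, inf_eq_left.2 Q'.le] at h1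
    exact h1
  · intro S
    have hc : Nat.card (S : Subgroup K) = 9 := by
      rw [S.card_eq_multiplicity, fact_three h9 h27]
      norm_num
    refine ⟨⟨(S : Subgroup K).map K.subtype, map_subtype_le _, ?_⟩, ?_⟩
    · rw [card_map_of_injective K.subtype_injective, hc]
    · apply Sylow.ext
      rw [Om.coe_toSylow]
      exact comap_map_eq_self_of_injective K.subtype_injective _

omit hK in
theorem card_Om (h9 : 9 ∣ Nat.card K) (h27 : ¬ 27 ∣ Nat.card K) : Nat.card (Om K) = Nat.card (Sylow 3 K) :=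
  Nat.card_congr (Equiv.ofBijective _ (Om.toSylow_bijective h9 h27))

/-- `K` is transitive -/
theorem exists_smul (h9 : 9 ∣ Nat.card K) (h27 : ¬ 27 ∣ Nat.card K) (Q Q' : Om K) : ∃ k ∈ K, k • Q = Q' := by
  have : Fact (Nat.Prime 3) := ⟨Nat.prime_three⟩
  obtain ⟨k, hk⟩ := MulAction.exists_smul_eq K (Q.toSylow h9 h27) (Q'.toSylow h9 h27)
  refine ⟨k, k.2, ?_⟩
  apply Om.ext
  rw [coe_smul]
  have h1 := congrArg (fun S : Sylow 3 K => (S : Subgroup K)) hk
  simp only [Sylow.coe_subgroup_smul, Om.coe_toSylow] at h1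
  ext x
  constructor
  · intro hx
    have hxK : x ∈ K := cj_le (g := (k : Γ)) Q.le hx
    have h2 : (⟨x, hxK⟩ : K) ∈ Q'.1.subgroupOf K := by
      rw [← h1]
      rw [mem_cj] at hx
      exact (mem_pointwise_smul_iff_inv_smul_mem).2 (mem_subgroupOf.2 (by
        rw [MulAut.smul_def, ← map_inv, MulAut.conj_apply]
        simpa using hx))
    exact mem_subgroupOf.1 h2
  · intro hx
    have hxK : x ∈ K := Q'.le hx
    have h2 : (⟨x, hxK⟩ : K) ∈ Q'.1.subgroupOf K := mem_subgroupOf.2 hx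
    rw [← h1, mem_pointwise_smul_iff_inv_smul_mem] at h2
    have h3 := mem_subgroupOf.1 h2
    rw [MulAut.smul_def, ← map_inv, MulAut.conj_apply] at h3
    rw [mem_cj]
    simpa using h3

omit hK in
/-- 3-subgroups of `K` -/
theorem exists_ge (h9 : 9 ∣ Nat.card K) (h27 : ¬ 27 ∣ Nat.card K) {W : Subgroup Γ} (hW : IsPGroup 3 W) (hWK : W ≤ K) :
    ∃ Q : Om K, W ≤ Q.1 := by
  have : Fact (Nat.Prime 3) := ⟨Nat.prime_three⟩
  have h1 : IsPGroup 3 (W.subgroupOf K) := hW.comap_of_injective K.subtype K.subtype_injective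
  obtain ⟨S, hS⟩ := h1.exists_le_sylow
  have hc : Nat.card (S : Subgroup K) = 9 := by
    rw [S.card_eq_multiplicity, fact_three h9 h27]
    norm_num
  refine ⟨⟨(S : Subgroup K).map K.subtype, map_subtype_le _, ?_⟩, ?_⟩
  · rw [card_map_of_injective K.subtype_injective, hc]
  · intro x hx
    exact ⟨⟨x, hWK hx⟩, hS (mem_subgroupOf.2 hx), rfl⟩

omit hK in
theorem eq_of_pgroup (h9 : 9 ∣ Nat.card K) (h27 : ¬ 27 ∣ Nat.card K) {W : Subgroup Γ} (hW : IsPGroup 3 W) (hWK : W ≤ K)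
    {Q : Om K} (hQ : Q.1 ≤ W) : W = Q.1 := by
  obtain ⟨Q', hQ'⟩ := exists_ge h9 h27 hW hWK
  have h1 : Q.1 = Q'.1 := eq_of_le_of_card_ge (hQ.trans hQ') (by rw [Q.card, Q'.card])
  exact le_antisymm (by rw [h1]; exact hQ') hQ

end

end Cfsg.Agent.H536.Nine
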